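import Cfsg.Agent.MaxSub.OrthFour.Monomial

/-!
Fixed spaces of products of site root elements: the exact value for two sites, and bounds.
-/

set_option autoImplicit false
set_option linter.unusedSectionVars false
set_option linter.unusedSimpArgs false
set_option linter.unusedVariables false
set_option linter.style.haveILetI false

namespace Cfsg.Agent.MaxSub.OrthFour.FixCount

open Matrix Module Cfsg.Agent.NotMax Cfsg.Agent.GeoClasses Site Slots
open Cfsg.Agent.MaxSub.TensorPowSp (Rest split blk_emb emb)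
open Cfsg.Agent.MaxSub.OrthWreathBig (gB cr cr_mul sieM)
open scoped Matrix

variable {F : Type*} [Field F] {δ : F} {t : ℕ}

/-- The vectors fixed by a matrix of the other sites. -/
def Ker (i : Fin t) (Q : Matrix (Rest 4 i) (Rest 4 i) F) : Submodule F (Rest 4 i → F) :=
  LinearMap.ker (Matrix.mulVecLin (Q - 1))

lemma mem_Ker {i : Fin t} {Q : Matrix (Rest 4 i) (Rest 4 i) F} {v : Rest 4 i → F} :
    v ∈ Ker i Q ↔ Q *ᵥ v = v := by
  simp [Ker, LinearMap.mem_ker, sub_eq_zero]

lemma slice_emb (i : Fin t) (Q : Matrix (Rest 4 i) (Rest 4 i) F) (f : Vec F t) (p : Fin 4) :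
    slice i (emb i Q *ᵥ f) p = Q *ᵥ slice i f p := by
  rw [slice_mulVec, blk_emb, Matrix.scalar_apply,
    Finset.sum_eq_single p (fun q _ hq => by rw [Matrix.diagonal_apply_ne _ hq.symm, zero_mulVec])
      (by simp), Matrix.diagonal_apply_eq]

lemma slice_surjective (i : Fin t) : Function.Surjective (slice (F := F) i) := fun v =>
  ⟨fun x => v (split i x).1 (split i x).2, by funext p r; simp [slice]⟩

/-- The fixed space of a matrix away from one site. -/
lemma fix_emb (i : Fin t) (Q : Matrix (Rest 4 i) (Rest 4 i) F) :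
    finrank F (Slots.Fix (emb i Q)) = 4 * finrank F (Ker i Q) := by
  let e : Slots.Fix (emb i Q) →ₗ[F] Fin 4 → Ker i Q :=
    LinearMap.pi fun p => (((LinearMap.proj p).comp (slice i)).comp (Slots.Fix (emb i Q)).subtype).codRestrict
      (Ker i Q) fun f => mem_Ker.2 (by
        show Q *ᵥ slice i (f : Vec F t) p = slice i (f : Vec F t) p
        rw [← slice_emb, mem_Fix.1 f.2])
  have he : ∀ f p, (e f p : Rest 4 i → F) = slice i (f : Vec F t) p := fun f p => rfl
  have hb : Function.Bijective e := by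
    refine ⟨fun f f' h => Subtype.ext (slice_inj i (funext fun p => ?_)), fun v => ?_⟩
    · rw [← he, ← he, h]
    · obtain ⟨f, hf⟩ := slice_surjective (F := F) i fun p => (v p : Rest 4 i → F)
      have hfix : emb i Q *ᵥ f = f := slice_inj i (funext fun p => by
        rw [slice_emb, hf]; exact mem_Ker.1 (v p).2)
      exact ⟨⟨f, mem_Fix.2 hfix⟩, funext fun p => Subtype.ext (by rw [he]; exact congrFun hf p)⟩
  rw [(LinearEquiv.ofBijective e hb).finrank_eq, Module.finrank_pi_fintype]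
  simp

/-- A frame adapted to the parameters of a root element. -/
lemma exists_frame (h2 : (2 : F) ≠ 0) (hd : ¬ IsSquare δ) {w x : Fin 4 → F} (h : Par δ w x) :
    ∃ y e, gB (G4 δ) w y = 1 ∧ gB (G4 δ) y y = 0 ∧ gB (G4 δ) x y = 0 ∧ gB (G4 δ) w e = 0 ∧
      gB (G4 δ) y e = 0 ∧ gB (G4 δ) x e = 0 ∧ gB (G4 δ) e e ≠ 0 ∧
      ∀ b, b = gB (G4 δ) y b • w + (gB (G4 δ) x b / gB (G4 δ) x x) • x + gB (G4 δ) w b • y +
        (gB (G4 δ) e b / gB (G4 δ) e e) • e := by
  obtain ⟨hw, hww, hwx, hxx⟩ := h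
  have hxw : gB (G4 δ) x w = 0 := by rw [gB_symm, hwx]
  obtain ⟨y₀, hy₀, -⟩ := exists_opposite h2 hd hw hww
  obtain ⟨y₁, hy₁⟩ : ∃ y₁, y₁ = y₀ - (gB (G4 δ) x y₀ / gB (G4 δ) x x) • x := ⟨_, rfl⟩
  obtain ⟨y, hy⟩ : ∃ y, y = y₁ - (gB (G4 δ) y₁ y₁ / 2) • w := ⟨_, rfl⟩
  have hwy₁ : gB (G4 δ) w y₁ = 1 := by simp [hy₁, hy₀, hwx]
  have hwy : gB (G4 δ) w y = 1 := by simp [hy, hwy₁, hww]
  have hxy : gB (G4 δ) x y = 0 := by simp [hy, hy₁, hxx, hxw]
  have hyy : gB (G4 δ) y y = 0 := by
    simp [hy, hwy₁, hww, gB_symm δ y₁ w]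
    field_simp
    ring
  obtain ⟨e, hwe, hye, hxe, hee⟩ := exists_perp hd hwy hww x
  have hyw : gB (G4 δ) y w = 1 := by rw [gB_symm, hwy]
  have hyx : gB (G4 δ) y x = 0 := by rw [gB_symm, hxy]
  let Ψ : (Fin 4 → F) →ₗ[F] Fin 4 → F := LinearMap.pi fun l => gB (G4 δ) (![y, x, w, e] l)
  let pre : (Fin 4 → F) → (Fin 4 → F) := fun c =>
    c 0 • w + (c 1 / gB (G4 δ) x x) • x + c 2 • y + (c 3 / gB (G4 δ) e e) • e
  have hpre : ∀ c, Ψ (pre c) = c := fun c => by
    funext l
    fin_cases l <;> simp [Ψ, pre, hww, hwx, hwy, hwe, hxw, hxy, hxe, hye, hyy, hyw, hyx, hxx, hee,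
      gB_symm δ e w, gB_symm δ e x, gB_symm δ e y]
  have hinj : Function.Injective Ψ :=
    LinearMap.injective_iff_surjective.2 fun c => ⟨pre c, hpre c⟩
  refine ⟨y, e, hwy, hyy, hxy, hwe, hye, hxe, hee, fun b => ?_⟩
  exact (hinj (hpre (Ψ b))).symm

/-- The condition on the pairings of a fixed vector. -/
lemma fix_iff (h2 : (2 : F) ≠ 0) (hd : ¬ IsSquare δ) (i : Fin t) {w x : Fin 4 → F} (h : Par δ w x)
    (Q : Matrix (Rest 4 i) (Rest 4 i) F) (f : Vec F t) :
    f ∈ Slots.Fix (site i (1 + sieM (G4 δ) w x) * emb i Q) ↔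
      ∀ b, Q *ᵥ psi δ i ((1 + sieM (G4 δ) w (-x)) *ᵥ b) f = psi δ i b f := by
  obtain ⟨hw, hww, hwx, hxx⟩ := h
  have hA : ∀ b, b ᵥ* G4 δ ᵥ* (1 + sieM (G4 δ) w x) =
      ((1 + sieM (G4 δ) w (-x)) *ᵥ b) ᵥ* G4 δ := fun b => by
    rw [← vecMul_transpose, vecMul_vecMul, vecMul_vecMul]
    congr 1
    have := sie_isoW h2 hww (show gB (G4 δ) w (-x) = 0 by rw [map_neg, hwx, neg_zero])
    conv_lhs => arg 1; rw [← this]
    rw [mul_assoc, sie_neg_mul h2 hww hwx, mul_one]
  have key : ∀ b, psi δ i b ((site i (1 + sieM (G4 δ) w x) * emb i Q) *ᵥ f) =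
      Q *ᵥ psi δ i ((1 + sieM (G4 δ) w (-x)) *ᵥ b) f := fun b => by
    rw [← mulVec_mulVec, psi_site i b _ _ _ (hA b), psi_emb]
  constructor
  · intro hf b
    rw [← key, mem_Fix.1 hf]
  · intro hf
    refine mem_Fix.2 (sub_eq_zero.1 (psi_nondeg hd i fun b => ?_))
    rw [map_sub, key, hf, sub_self]

/-- One more root site quarters the excess of the fixed space. -/
lemma fix_step (h2 : (2 : F) ≠ 0) (hd : ¬ IsSquare δ) (i : Fin t) {w x : Fin 4 → F} (h : Par δ w x)
    {R : MV F t} (hR : ∀ Z, Commute (site i Z) R) :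
    4 * finrank F (Slots.Fix (site i (1 + sieM (G4 δ) w x) * R)) ≤
      finrank F (Slots.Fix R) + Fintype.card (Fin t → Fin 4) := by
  obtain ⟨Q, rfl⟩ := TensorPowSp.exists_emb_of_commute i hR
  obtain ⟨y, e, hwy, hyy, hxy, hwe, hye, hxe, hee, hspan⟩ := exists_frame h2 hd h
  have hxw : gB (G4 δ) x w = 0 := by rw [gB_symm, h.2.2.1]
  set B := site i (1 + sieM (G4 δ) w x) * emb i Q
  have key : ∀ f ∈ Slots.Fix B, ∀ b, Q *ᵥ psi δ i ((1 + sieM (G4 δ) w (-x)) *ᵥ b) f = psi δ i b f :=
    fun f hf => (fix_iff h2 hd i h Q f).1 hf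
  have hA'e : (1 + sieM (G4 δ) w (-x)) *ᵥ e = e := by rw [sie_apply]; simp [hwe, hxe]
  let Φ : Slots.Fix B →ₗ[F] Ker i Q × (Rest 4 i → F) :=
    (((psi δ i e).comp (Slots.Fix B).subtype).codRestrict (Ker i Q) fun f => mem_Ker.2 (by
      have := key f.1 f.2 e
      rwa [hA'e] at this)).prod ((psi δ i y).comp (Slots.Fix B).subtype)
  have hΦ : Function.Injective Φ := by
    rw [← LinearMap.ker_eq_bot, LinearMap.ker_eq_bot']
    rintro ⟨f, hf⟩ h0
    have he : psi δ i e f = 0 := congrArg (fun z : Ker i Q × _ => (z.1 : Rest 4 i → F)) h0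
    have hy : psi δ i y f = 0 := congrArg (fun z : Ker i Q × (Rest 4 i → F) => z.2) h0
    obtain ⟨hw, hww, hwx, hxx⟩ := h
    have kw := key f hf w
    rw [show (1 + sieM (G4 δ) w (-x)) *ᵥ w = w by rw [sie_apply]; simp [hww, hxw]] at kw
    have kx := key f hf x
    rw [sie_apply] at kx
    simp [hwx] at kx
    have ky := key f hf y
    rw [sie_apply] at ky
    simp [hwy, hxy, hy] at ky
    simp only [mulVec_add, mulVec_sub, mulVec_neg, mulVec_smul, kw] at kx ky
    have hgw : gB (G4 δ) x x • psi δ i w f = 0 := by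
      have e1 : Q *ᵥ psi δ i x f = psi δ i x f - gB (G4 δ) x x • psi δ i w f := eq_sub_of_add_eq kx
      have e2 : psi δ i x f = ((1 : F) / 2 * gB (G4 δ) x x) • psi δ i w f := by
        rw [e1] at ky
        linear_combination (norm := (match_scalars <;> field_simp <;> ring)) -ky
      have e3 := e1
      rw [e2, mulVec_smul, kw] at e3
      linear_combination (norm := module) e3
    have hw0 : psi δ i w f = 0 := (smul_eq_zero.1 hgw).resolve_left hxx
    have hx0 : psi δ i x f = 0 := by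
      simp [hw0] at kx ky
      rw [← kx, ky]
    refine Subtype.ext (psi_nondeg hd i fun b => ?_)
    rw [hspan b]
    simp only [map_add, map_smul, LinearMap.add_apply, LinearMap.smul_apply, hy, hx0, hw0, he,
      smul_zero, add_zero]
  have h1 := LinearMap.finrank_le_finrank_of_injective hΦ
  rw [Module.finrank_prod, Module.finrank_fintype_fun_eq_card] at h1
  rw [fix_emb, card_split i]
  omega

/-- Root elements of two sites fix three eighths of the space. -/
lemma le_fix_two (h2 : (2 : F) ≠ 0) (hd : ¬ IsSquare δ) {i j : Fin t} (hij : i ≠ j)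
    {w x w' x' : Fin 4 → F} (h : Par δ w x) (h' : Par δ w' x') :
    3 * Fintype.card (Fin t → Fin 4) ≤
      8 * finrank F (Slots.Fix (site i (1 + sieM (G4 δ) w x) * site j (1 + sieM (G4 δ) w' x'))) := by
  haveI : NeZero t := ⟨(Fin.pos i).ne'⟩
  obtain ⟨Q, hQ⟩ := TensorPowSp.exists_emb_of_commute i (B := site j (1 + sieM (G4 δ) w' x'))
    fun Z => site_comm hij Z _
  have hk := half_le_fix hd j w' x'
  rw [hQ, fix_emb] at hk
  rw [hQ]
  obtain ⟨y, e, hwy, hyy, hxy, hwe, hye, hxe, hee, hspan⟩ := exists_frame h2 hd h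
  obtain ⟨hw, hww, hwx, hxx⟩ := h
  obtain ⟨hw', hw'w', hw'x', hx'x'⟩ := h'
  set D := Q - 1 with hD
  have hD3 : D * (D * D) = 0 := by
    refine TensorPowSp.emb_injective i ?_
    rw [map_zero, map_mul, map_mul, hD, map_sub, map_one, ← hQ, site_add, site_one, add_sub_cancel_left,
      site_mul, sieM_sq h2 hw'w' hw'x', site_mul]
    convert site_zero (F := F) (k := 4) j
    have hx'w' : gB (G4 δ) x' w' = 0 := by rw [gB_symm, hw'x']
    simp [sieM, mul_smul_comm, sub_mul, smul_mul_assoc, cr_mul, hw'w', hw'x', hx'w']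
  set g := gB (G4 δ) x x
  let D2 := Matrix.mulVecLin (D * D)
  let Fw : (Rest 4 i → F) →ₗ[F] Rest 4 i → F := (-g⁻¹) • D2
  let Fx : (Rest 4 i → F) →ₗ[F] Rest 4 i → F := Matrix.mulVecLin D - (2 : F)⁻¹ • D2
  have hDw : ∀ v, D *ᵥ Fw v = 0 := fun v => by
    simp [Fw, D2, mulVec_neg, mulVec_smul, mulVec_mulVec, hD3]
  have hDx : ∀ v, D *ᵥ Fx v = -(g • Fw v) := fun v => by
    simp [Fw, Fx, D2, mulVec_sub, mulVec_smul, mulVec_mulVec, hD3, hxx, g, smul_smul]
  let L : (Rest 4 i → F) → (Rest 4 i → F) → (Fin 4 → F) →ₗ[F] Rest 4 i → F := fun a v =>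
    (gB (G4 δ) w).smulRight v + (gB (G4 δ) x).smulRight (g⁻¹ • Fx v) +
      (gB (G4 δ) y).smulRight (Fw v) + (gB (G4 δ) e).smulRight ((gB (G4 δ) e e)⁻¹ • a)
  let dual : Fin 4 → Fin 4 → F := fun p => Pi.single p 1 ᵥ* (G4 δ)⁻¹
  have hdual : ∀ b : Fin 4 → F, ∑ p, (b ᵥ* G4 δ) p • dual p = b := fun b => by
    simp only [dual, ← smul_vecMul, ← Matrix.sum_vecMul]
    rw [show ∑ p, (b ᵥ* G4 δ) p • (Pi.single p (1 : F) : Fin 4 → F) = b ᵥ* G4 δ from
      (pi_eq_sum_univ' _).symm, vecMul_vecMul, Matrix.mul_nonsing_inv _ (G4_det hd), vecMul_one]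
  let Θ : Ker i Q × (Rest 4 i → F) →ₗ[F] Vec F t :=
    { toFun := fun z x' => L z.1 z.2 (dual (split i x').1) (split i x').2
      map_add' := fun z z' => by funext x'; simp [L, Fw, Fx, D2, mulVec_add]; ring
      map_smul' := fun c z => by funext x'; simp [L, Fw, Fx, D2, mulVec_smul]; ring }
  have hpsi : ∀ z b, psi δ i b (Θ z) = L z.1 z.2 b := fun z b => by
    conv_rhs => rw [← hdual b, map_sum]
    rw [psi_apply]
    refine Finset.sum_congr rfl fun p _ => ?_
    rw [map_smul]
    congr 1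
    funext r
    show L z.1 z.2 (dual (split i ((split i).symm (p, r))).1) (split i ((split i).symm (p, r))).2 = _
    rw [Equiv.apply_symm_apply]
  have hfixed : ∀ z, Θ z ∈ Slots.Fix (site i (1 + sieM (G4 δ) w x) * emb i Q) := fun z => by
    refine (fix_iff h2 hd i ⟨hw, hww, hwx, hxx⟩ Q _).2 fun b => ?_
    have hyx : gB (G4 δ) y x = 0 := by rw [gB_symm, hxy]
    have hyw : gB (G4 δ) y w = 1 := by rw [gB_symm, hwy]
    have hxw : gB (G4 δ) x w = 0 := by rw [gB_symm, hwx]
    have ha := mem_Ker.1 z.1.2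
    have hDv : ∀ v : Rest 4 i → F, Q *ᵥ v = v + D *ᵥ v := fun v => by
      rw [hD, sub_mulVec, one_mulVec, add_sub_cancel]
    have hDa : D *ᵥ (z.1 : Rest 4 i → F) = 0 := by rw [hD, sub_mulVec, one_mulVec, ha, sub_self]
    have hv : D *ᵥ z.2 = Fx z.2 - (2 : F)⁻¹ • (g • Fw z.2) := by
      simp [Fx, Fw, D2, hxx, g, smul_smul]
    rw [hpsi, hpsi, sie_apply, hDv]
    simp only [L, LinearMap.add_apply, LinearMap.smulRight_apply, map_add, map_sub, map_smul, map_neg,
      LinearMap.sub_apply, LinearMap.smul_apply, LinearMap.neg_apply, mulVec_add, mulVec_sub,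
      mulVec_smul, mulVec_neg, hDw, hDx, hDa, hv, hww, hwx, hxy, hyx, hyw, hxw, gB_symm δ e w,
      gB_symm δ e x, hwe, hxe, smul_zero, smul_neg, neg_neg, neg_zero, zero_sub, sub_zero, smul_eq_mul,
      mul_zero, mul_one, zero_smul, mulVec_zero, add_zero, zero_add, one_smul]
    rw [show gB (G4 δ) x x = g from rfl]
    match_scalars <;> field_simp <;> ring
  have hinj : Function.Injective (Θ.codRestrict (Slots.Fix _) hfixed) := by
    rw [← LinearMap.ker_eq_bot, LinearMap.ker_eq_bot']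
    intro z hz
    have hz' : Θ z = 0 := congrArg Subtype.val hz
    have e1 := hpsi z e
    have e2 := hpsi z y
    rw [hz', map_zero] at e1 e2
    have hey : gB (G4 δ) e y = 0 := by rw [gB_symm, hye]
    have hye' : gB (G4 δ) y e = 0 := hye
    simp [L, hwe, hxe, hye', hee] at e1
    simp [L, hwy, hxy, hyy, hey] at e2
    exact Prod.ext (Subtype.ext (by simpa using e1.symm)) e2.symm
  have h1 := LinearMap.finrank_le_finrank_of_injective hinj
  rw [Module.finrank_prod, Module.finrank_fintype_fun_eq_card] at h1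
  rw [card_split i] at hk ⊢
  omega

/-- A product of root elements of distinct sites. -/
lemma fix_pure_le (h2 : (2 : F) ≠ 0) (hd : ¬ IsSquare δ) (S : Finset (Fin t)) :
    ∀ A : Fin t → M4 F, (∀ l ∈ S, ∃ w x, Par δ w x ∧ A l = 1 + sieM (G4 δ) w x) →
      (∀ l, l ∉ S → A l = 1) →
      (1 ≤ S.card → 2 * finrank F (Slots.Fix (pureMat A)) ≤ Fintype.card (Fin t → Fin 4)) ∧
      (2 ≤ S.card → 8 * finrank F (Slots.Fix (pureMat A)) ≤ 3 * Fintype.card (Fin t → Fin 4)) ∧
      (3 ≤ S.card → 8 * finrank F (Slots.Fix (pureMat A)) < 3 * Fintype.card (Fin t → Fin 4)) := by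
  classical
  induction S using Finset.induction with
  | empty => intro A _ _; simp
  | insert i S hi ih =>
    intro A hA hA1
    obtain ⟨w, x, hP, hAi⟩ := hA i (Finset.mem_insert_self i S)
    have hR := ih (Function.update A i 1)
      (fun l hl => by rw [Function.update_of_ne (fun e : l = i => hi (e ▸ hl))]; exact hA l (Finset.mem_insert_of_mem hl))
      (fun l hl => by
        by_cases e : l = i
        · subst e; exact Function.update_self l 1 A
        · rw [Function.update_of_ne e]; exact hA1 l (by simp [e, hl]))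
    have hstep := fix_step h2 hd i hP (R := pureMat (Function.update A i 1)) fun Z =>
      TensorPowSp.site_comm_pure i Z _ (Function.update_self i 1 A)
    rw [← hAi, ← TensorPowSp.pureMat_update_mul _ (Function.update_self i 1 A), Function.update_idem,
      Function.update_eq_self] at hstep
    have htop := Submodule.finrank_le (Slots.Fix (pureMat (Function.update A i 1)))
    rw [Module.finrank_fintype_fun_eq_card] at htop
    have hpos : 0 < Fintype.card (Fin t → Fin 4) := Fintype.card_pos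
    rw [Finset.card_insert_of_notMem hi]
    refine ⟨fun _ => by omega, fun h => ?_, fun h => ?_⟩
    · have := hR.1 (by omega); omega
    · have := hR.2.1 (by omega); omega

/-- Two root sites fix exactly three eighths of the space. -/
theorem fix_two_eq (h2 : (2 : F) ≠ 0) (hd : ¬ IsSquare δ) {i j : Fin t} (hij : i ≠ j)
    {w x w' x' : Fin 4 → F} (h : Par δ w x) (h' : Par δ w' x') :
    8 * finrank F (Slots.Fix (site i (1 + sieM (G4 δ) w x) * site j (1 + sieM (G4 δ) w' x'))) =
      3 * Fintype.card (Fin t → Fin 4) := by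
  refine le_antisymm ?_ (le_fix_two h2 hd hij h h')
  have h1 := fix_step h2 hd i h (R := site j (1 + sieM (G4 δ) w' x')) fun Z => site_comm hij Z _
  have h0 := fix_step h2 hd j h' (R := 1) fun Z => Commute.one_right _
  rw [mul_one] at h0
  have htop := Submodule.finrank_le (Slots.Fix (1 : MV F t))
  rw [Module.finrank_fintype_fun_eq_card] at htop
  omega

lemma card_count_five {a : Fin t} {s : Finset (Fin t)} (ha : a ∉ s) (hs : s.card = 4) :
    8 * Fintype.card {x : Fin t → Fin 4 // ∀ b ∈ s, x a ≤ x b} < 3 * Fintype.card (Fin t → Fin 4) := by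
  classical
  let h : Fin 4 → Fin t → Fin 4 → ℕ := fun v i u =>
    if i = a then (if u = v then 1 else 0) else if i ∈ s then (if v ≤ u then 1 else 0) else 1
  have hins : ∀ g : Fin t → ℕ, (∀ i, i ≠ a → i ∉ s → g i = 1) → ∏ i, g i = g a * ∏ i ∈ s, g i :=
    fun g hg => by
      rw [← Finset.prod_insert ha]
      exact (Finset.prod_subset (Finset.subset_univ _) fun i _ hi => by
        simp only [Finset.mem_insert, not_or] at hi; exact hg i hi.1 hi.2).symm
  have hcard : Fintype.card {x : Fin t → Fin 4 // ∀ b ∈ s, x a ≤ x b} = ∑ v, ∏ i, ∑ u, h v i u := by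
    rw [Finset.sum_congr rfl fun v _ => Fintype.prod_sum (h v), Finset.sum_comm, Fintype.card_subtype,
      Finset.card_filter]
    refine Finset.sum_congr rfl fun x _ => ?_
    have e : ∀ v, ∏ i, h v i (x i) = if x a = v ∧ ∀ b ∈ s, v ≤ x b then 1 else 0 := fun v => by
      rw [hins _ fun i h1 h2 => by simp [h, h1, h2],
        Finset.prod_congr rfl fun i hi => show h v i (x i) = if v ≤ x i then 1 else 0 by
          simp [h, hi, show i ≠ a from fun e => ha (e ▸ hi)], Finset.prod_boole]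
      simp only [h, if_true]
      split_ifs <;> simp_all
    simp only [e]
    rw [Finset.sum_eq_single (x a) (fun v _ hv => if_neg fun h => hv h.1.symm) (by simp)]
    simp
  have hprod : ∀ v : Fin 4, ∏ i, ∑ u, h v i u =
      (∑ u : Fin 4, if v ≤ u then 1 else 0) ^ 4 * 4 ^ (insert a s)ᶜ.card := fun v => by
    rw [← Finset.prod_mul_prod_compl (insert a s), Finset.prod_insert ha]
    congr 1
    · rw [show ∑ u, h v a u = 1 by simp [h], one_mul]
      refine (Finset.prod_eq_pow_card (b := ∑ u : Fin 4, if v ≤ u then 1 else 0) fun i hi => ?_).trans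
        (congrArg _ hs)
      simp [h, hi, show i ≠ a from fun e => ha (e ▸ hi)]
    · refine Finset.prod_eq_pow_card fun i hi => ?_
      simp only [Finset.mem_compl, Finset.mem_insert, not_or] at hi
      simp [h, hi.1, hi.2]
  have ht : t = 5 + (insert a s)ᶜ.card := by
    have := Finset.card_add_card_compl (insert a s)
    rw [Finset.card_insert_of_notMem ha, hs, Fintype.card_fin] at this
    omega
  rw [hcard, Fintype.card_fun, Fintype.card_fin, Fintype.card_fin,
    Finset.sum_congr rfl fun v _ => hprod v, ← Finset.sum_mul,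
    show ∑ v : Fin 4, (∑ u : Fin 4, if v ≤ u then 1 else 0) ^ 4 = 354 by decide]
  conv_rhs => rw [ht, pow_add]
  have : 0 < 4 ^ (insert a s)ᶜ.card := by positivity
  omega

/-- Monomial maps of odd prime order moving a site and order at least five fix less than three eighths
of the space. -/
theorem fix_perm_lt_five {p : ℕ} (hp : p.Prime) (hp5 : 5 ≤ p) {cs : Fin t → GL (Fin 4) F}
    {π : Equiv.Perm (Fin t)} {a : Fin t} (ha : π a ≠ a)
    (hv : (glPure cs * glFactorPerm 4 π) ^ p = 1) :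
    8 * finrank F (Slots.Fix ((glPure cs * glFactorPerm 4 π : GV F t) : MV F t)) <
      3 * Fintype.card (Fin t → Fin 4) := by
  classical
  obtain ⟨E, hE0, hEs⟩ : ∃ E : ℕ → GL (Fin 4) F, E 0 = 1 ∧
      ∀ k, E (k + 1) = cs ((π ^ (k + 1)) a) * E k :=
    ⟨fun k => Nat.rec 1 (fun k e => cs ((π ^ (k + 1)) a) * e) k, rfl, fun _ => rfl⟩
  have hpow : ∀ k, ∃ C, (glPure cs * glFactorPerm 4 π) ^ k = glPure C * glFactorPerm 4 (π ^ k) ∧
      C ((π ^ k) a) = E k := by
    intro k
    induction k with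
    | zero => exact ⟨1, by simp [Monomial.glPure_one, Monomial.glFactorPerm_one], by simp [hE0]⟩
    | succ k ih =>
      obtain ⟨C, hC, hCa⟩ := ih
      refine ⟨fun i => cs i * C (π.symm i), by rw [pow_succ', hC, Monomial.form_mul, pow_succ'], ?_⟩
      simp only [hEs, ← hCa]
      rw [pow_succ', Equiv.Perm.mul_apply, Equiv.symm_apply_apply]
  obtain ⟨C, hC, hCa⟩ := hpow p
  rw [hv] at hC
  obtain ⟨hπp, hsc⟩ := Monomial.of_form_one hC.symm
  rw [hπp, Equiv.Perm.one_apply] at hCa
  obtain ⟨lam, -, hlam⟩ := hsc a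
  rw [hCa] at hlam
  haveI := Fact.mk hp
  have hord : orderOf π = p := orderOf_eq_prime hπp fun e => ha (by simp [e])
  have hinj : ∀ j k, j < k → k < p → (π ^ j) a ≠ (π ^ k) a := fun j k hjk hk e => by
    have e' : (π ^ (k - j)) a = a := by
      refine (π ^ j).injective ?_
      rw [← Equiv.Perm.mul_apply, ← pow_add, Nat.add_sub_cancel' hjk.le, e]
    obtain ⟨m, hm⟩ := exists_pow_eq_self_of_coprime (x := π) (n := k - j) (by
      rw [hord]; exact Nat.Coprime.symm (hp.coprime_iff_not_dvd.2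
        (Nat.not_dvd_of_pos_of_lt (by omega) (by omega))))
    have hfix : ∀ m : ℕ, ((π ^ (k - j)) ^ m) a = a := fun m => by
      induction m with
      | zero => simp
      | succ m ih => rw [pow_succ, Equiv.Perm.mul_apply, e', ih]
    exact ha (by conv_lhs => rw [← hm]
                 exact hfix m)
  let D : Fin t → GL (Fin 4) F := fun i =>
    if h : ∃ k, k < p ∧ (π ^ k) a = i then E (Nat.find h) else 1
  have hD : ∀ k < p, D ((π ^ k) a) = E k := fun k hk => by
    have hex : ∃ j, j < p ∧ (π ^ j) a = (π ^ k) a := ⟨k, hk, rfl⟩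
    simp only [D, dif_pos hex]
    congr 1
    obtain ⟨h1, h2⟩ := Nat.find_spec hex
    rcases lt_trichotomy (Nat.find hex) k with h | h | h
    · exact absurd h2 (hinj _ _ h hk)
    · exact h
    · exact absurd h2.symm (hinj _ _ h h1)
  set cs' : Fin t → GL (Fin 4) F := fun i => (D i)⁻¹ * (cs i * D (π.symm i))
  have hconj : (glPure D)⁻¹ * (glPure cs * glFactorPerm 4 π) * glPure D =
      glPure cs' * glFactorPerm 4 π := by
    rw [show (glPure D)⁻¹ = glPure D⁻¹ from inv_eq_of_mul_eq_one_right (by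
      rw [Monomial.glPure_mul, mul_inv_cancel, Monomial.glPure_one]), mul_assoc, mul_assoc, Monomial.perm_mul_glPure,
      ← mul_assoc, ← mul_assoc, Monomial.glPure_mul, Monomial.glPure_mul]
    congr 2
    funext i
    simp [cs', mul_assoc]
  have hscal : ∀ j, ∃ c : F, (cs' ((π ^ j) a) : M4 F) = c • 1 := by
    intro j
    obtain ⟨k, hk, hkj⟩ : ∃ k, k < p ∧ π ^ (k + 1) = π ^ j :=
      ⟨(j + (p - 1)) % p, Nat.mod_lt _ hp.pos, by
        rw [pow_succ, ← pow_eq_pow_mod _ hπp, ← pow_succ,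
          show j + (p - 1) + 1 = j + p by have := hp.pos; omega, pow_add, hπp, mul_one]⟩
    rw [← hkj]
    have hprev : π.symm ((π ^ (k + 1)) a) = (π ^ k) a := by
      rw [pow_succ', Equiv.Perm.mul_apply, Equiv.symm_apply_apply]
    simp only [cs', hprev, hD k hk]
    by_cases hk1 : k + 1 < p
    · exact ⟨1, by rw [hD _ hk1, hEs, inv_mul_cancel, Units.val_one, one_smul]⟩
    · have hkp : k + 1 = p := by omega
      refine ⟨lam, ?_⟩
      rw [← hEs, hkp, hπp, Equiv.Perm.one_apply, ← hlam]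
      have h0 := hD 0 hp.pos
      rw [pow_zero, Equiv.Perm.one_apply, hE0] at h0
      rw [h0, inv_one, one_mul]
  have hperiod : ∀ j, (π ^ j) a = (π ^ (j % p)) a := fun j => by rw [← pow_eq_pow_mod j hπp]
  have hne : ∀ k, 1 ≤ k → k < p → (π ^ k) a ≠ a := fun k h1 hk => by
    simpa using (hinj 0 k h1 hk).symm
  have hinj' : Set.InjOn (fun k => (π ^ k) a) (Finset.Icc 1 4 : Finset ℕ) := fun j hj k hk e => by
    simp only [Finset.coe_Icc, Set.mem_Icc] at hj hk
    rcases lt_trichotomy j k with h | h | h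
    · exact absurd e (hinj j k h (by omega))
    · exact h
    · exact absurd e.symm (hinj k j h (by omega))
  obtain ⟨S, hS⟩ : ∃ S, S = (Finset.Icc 1 4).image fun k => (π ^ k) a := ⟨_, rfl⟩
  have haS : a ∉ S := fun h => by
    obtain ⟨k, hk, e⟩ := Finset.mem_image.1 (hS ▸ h)
    rw [Finset.mem_Icc] at hk
    exact hne k hk.1 (by omega) e
  have hS4 : S.card = 4 := by rw [hS, Finset.card_image_of_injOn hinj']; simp
  refine lt_of_le_of_lt ?_ (card_count_five haS hS4)
  refine Nat.mul_le_mul le_rfl ?_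
  have hle := fix_le_conj (glPure D)⁻¹ (glPure cs * glFactorPerm 4 π)
  rw [inv_inv, hconj] at hle
  refine hle.trans ?_
  rw [← Module.finrank_fintype_fun_eq_card F]
  refine LinearMap.finrank_le_finrank_of_injective (f :=
    (LinearMap.funLeft F F (Subtype.val :
      {x : Fin t → Fin 4 // ∀ b ∈ S, x a ≤ x b} → _)).comp
      (Slots.Fix ((glPure cs' * glFactorPerm 4 π : GV F t) : MV F t)).subtype) ?_
  rw [← LinearMap.ker_eq_bot, LinearMap.ker_eq_bot']
  rintro ⟨f, hf⟩ h0
  have hfix : ∀ x, f x = ∑ z, pureMat (fun i => (cs' i : M4 F)) x z * f (z ∘ π) := fun x => by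
    conv_lhs => rw [← mem_Fix.1 hf]
    show ((pureMat (fun i => (cs' i : M4 F)) * factorPerm 4 π) *ᵥ f) x = _
    rw [← mulVec_mulVec]
    simp [Matrix.mulVec, dotProduct, factorPerm]
  have hmain : ∀ k (x : Fin t → Fin 4), (∀ j, x ((π ^ k) a) ≤ x ((π ^ j) a)) → f x = 0 := by
    intro k
    induction k with
    | zero =>
      intro x hx
      exact congrFun h0 ⟨x, fun b hb => by
        rw [hS, Finset.mem_image] at hb
        obtain ⟨j, -, rfl⟩ := hb
        simpa using hx j⟩
    | succ k ih =>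
      intro x hx
      rw [hfix]
      refine Finset.sum_eq_zero fun z _ => ?_
      by_cases hz : ∀ j, z ((π ^ j) a) = x ((π ^ j) a)
      · rw [ih (z ∘ π) fun j => ?_, mul_zero]
        simp only [Function.comp_apply, ← Equiv.Perm.mul_apply, ← pow_succ', hz]
        exact hx _
      · push Not at hz
        obtain ⟨j, hj⟩ := hz
        obtain ⟨c, hc⟩ := hscal j
        rw [pureMat, Finset.prod_eq_zero (Finset.mem_univ ((π ^ j) a)) (by simp [hc, hj.symm]), zero_mul]
  refine Subtype.ext (funext fun x => ?_)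
  obtain ⟨k, -, hk⟩ := Finset.exists_min_image (Finset.range p) (fun j => x ((π ^ j) a))
    ⟨0, Finset.mem_range.2 hp.pos⟩
  exact hmain k x fun j => by
    rw [hperiod j]; exact hk _ (Finset.mem_range.2 (Nat.mod_lt _ hp.pos))

end Cfsg.Agent.MaxSub.OrthFour.FixCount
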