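import Cfsg.Agent.MaxSub.OrthFour.Base

/-!
Commuting matrices of the tensor power which are permuted by all site reflections are scalar.
-/

set_option autoImplicit false
set_option linter.unusedSectionVars false
set_option linter.unusedSimpArgs false
set_option linter.style.haveILetI false

namespace Cfsg.Agent.MaxSub.OrthFour.UBig

open Matrix Module Cfsg.Agent.NotMax Cfsg.Agent.GeoClasses
open Cfsg.Agent.MaxSub.TensorPowSp (gV fG siteHom siteHom_apply iSup_range_eq_top)
open Cfsg.Agent.MaxSub.OrthWreathBig (gB cr cr_mul gB_apply site_sub)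

variable {F : Type*} [Field F] {t : ℕ} {δ : F}

/-- The projection of one site onto an anisotropic vector. -/
noncomputable def Py (δ : F) (j : Fin t) (y : Fin 4 → F) : MV F t :=
  (gB (G4 δ) y y)⁻¹ • site j (cr (G4 δ) y y)

/-- An orthogonal basis of one site. -/
def Orth (δ : F) (f : Fin 4 → Fin 4 → F) : Prop :=
  (∀ l, gB (G4 δ) (f l) (f l) ≠ 0) ∧ ∀ l m, l ≠ m → gB (G4 δ) (f l) (f m) = 0

lemma refl_eq (j : Fin t) (y : Fin 4 → F) :
    site j (reflW δ y) = 1 - (2 : F) • Py δ j y := by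
  rw [reflW, site_sub, site_one, site_smul, Py, smul_smul, div_eq_mul_inv]

lemma Py_idem (j : Fin t) {y : Fin 4 → F} (hy : gB (G4 δ) y y ≠ 0) :
    Py δ j y * Py δ j y = Py δ j y := by
  rw [Py, smul_mul_smul_comm, site_mul, cr_mul, site_smul, smul_smul, mul_assoc,
    inv_mul_cancel₀ hy, mul_one]

lemma Py_orth (j : Fin t) {y z : Fin 4 → F} (hyz : gB (G4 δ) y z = 0) :
    Py δ j y * Py δ j z = 0 := by
  rw [Py, Py, smul_mul_smul_comm, site_mul, cr_mul, hyz, zero_smul, site_zero, smul_zero]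

lemma refl_mul_self (j : Fin t) {y : Fin 4 → F} (hy : gB (G4 δ) y y ≠ 0) :
    site j (reflW δ y) * site j (reflW δ y) = 1 := by
  rw [refl_eq, sub_mul, mul_sub, mul_sub, one_mul, one_mul, mul_one, smul_mul_smul_comm,
    Py_idem j hy]
  match_scalars <;> ring

lemma Py_of_refl (h2 : (2 : F) ≠ 0) (j : Fin t) (y : Fin 4 → F) :
    Py δ j y = (2 : F)⁻¹ • (1 - site j (reflW δ y)) := by
  rw [refl_eq, sub_sub_cancel, smul_smul, inv_mul_cancel₀ h2, one_smul]

lemma frame_sum (j : Fin t) {f : Fin 4 → Fin 4 → F} (hf : Orth δ f) :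
    ∑ l, Py δ j (f l) = 1 := by
  have e : Matrix.of f * G4 δ * (Matrix.of f)ᵀ =
      Matrix.diagonal fun l => gB (G4 δ) (f l) (f l) := by
    ext l m
    have : (Matrix.of f * G4 δ * (Matrix.of f)ᵀ) l m = gB (G4 δ) (f l) (f m) := by
      simp [gB_apply, fG, dotProduct, Matrix.mul_apply, Matrix.vecMul]
    rw [this, Matrix.diagonal_apply]
    split_ifs with h
    · rw [h]
    · exact hf.2 l m h
  have key : (Matrix.of f)ᵀ * (Matrix.diagonal (fun l => (gB (G4 δ) (f l) (f l))⁻¹) *
      (Matrix.of f * G4 δ)) = 1 := by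
    refine mul_eq_one_comm.1 ?_
    rw [mul_assoc, e, Matrix.diagonal_mul_diagonal, ← Matrix.diagonal_one]
    congr 1
    funext l
    exact inv_mul_cancel₀ (hf.1 l)
  have hsum : ∑ l, (gB (G4 δ) (f l) (f l))⁻¹ • cr (G4 δ) (f l) (f l) = 1 := by
    rw [← key]
    ext p q
    rw [Matrix.sum_apply, Matrix.mul_apply]
    refine Finset.sum_congr rfl fun l _ => ?_
    simp only [cr, Matrix.smul_apply, vecMulVec_apply, Matrix.transpose_apply, Matrix.of_apply,
      Matrix.diagonal_mul, smul_eq_mul]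
    have : (f l ᵥ* G4 δ) q = (Matrix.of f * G4 δ) l q := rfl
    rw [this]
    ring
  have := congrArg (siteHom j) hsum
  simpa [map_sum, map_smul, siteHom_apply, Py, site_one] using this

lemma orth_four {a b c d : Fin 4 → F} (ha : gB (G4 δ) a a ≠ 0) (hb : gB (G4 δ) b b ≠ 0)
    (hc : gB (G4 δ) c c ≠ 0) (hd : gB (G4 δ) d d ≠ 0) (hab : gB (G4 δ) a b = 0)
    (hac : gB (G4 δ) a c = 0) (had : gB (G4 δ) a d = 0) (hbc : gB (G4 δ) b c = 0)
    (hbd : gB (G4 δ) b d = 0) (hcd : gB (G4 δ) c d = 0) : Orth δ ![a, b, c, d] := by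
  refine ⟨fun l => ?_, fun l m h => ?_⟩
  · fin_cases l <;> simpa
  · fin_cases l <;> fin_cases m <;>
      simp [hab, hac, had, hbc, hbd, hcd, gB_symm δ b a, gB_symm δ c a, gB_symm δ d a,
        gB_symm δ c b, gB_symm δ d b, gB_symm δ d c] at h ⊢

lemma gB_std_left (l : Fin 4) (z : Fin 4 → F) :
    gB (G4 δ) (Pi.single l 1) z = wt δ l * z l := by
  rw [gB_diag]; fin_cases l <;> simp [wt]

lemma gB_std_right (l : Fin 4) (z : Fin 4 → F) :
    gB (G4 δ) z (Pi.single l 1) = wt δ l * z l := by rw [gB_symm, gB_std_left]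

lemma orth_std (hδ : ¬ IsSquare δ) : Orth δ fun l => Pi.single l 1 := by
  refine ⟨fun l => ?_, fun l m h => ?_⟩
  · rw [gB_std_left]; simpa using wt_ne_zero hδ l
  · rw [gB_std_left]; simp [h]

/-- The projections onto the vectors of orthogonal bases of all sites generate everything. -/
theorem top_of_frames (h2 : (2 : F) ≠ 0) (hδ : ¬ IsSquare δ) (A : Subalgebra F (MV F t))
    (hA : ∀ j f, Orth δ f → ∀ l, Py δ j (f l) ∈ A) : A = ⊤ := by
  classical
  rw [eq_top_iff, ← iSup_range_eq_top, iSup_le_iff]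
  intro j
  set B := A.comap (siteHom (F := F) (k := 4) j) with hB
  suffices hT : B = ⊤ by
    rintro _ ⟨X, rfl⟩
    exact (hT ▸ Algebra.mem_top : X ∈ B)
  have hcr : ∀ f, Orth δ f → ∀ l, cr (G4 δ) (f l) (f l) ∈ B := fun f hf l => by
    have := A.smul_mem (hA j f hf l) (gB (G4 δ) (f l) (f l))
    rw [Py, smul_smul, mul_inv_cancel₀ (hf.1 l), one_smul] at this
    exact this
  have hstd := orth_std hδ
  have hlink : ∀ f, Orth δ f → ∀ l a b, f l a ≠ 0 → f l b ≠ 0 →
      cr (G4 δ) (Pi.single a 1) (Pi.single b 1) ∈ B := by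
    intro f hf l a b ha hb
    have := mul_mem (mul_mem (hcr _ hstd a) (hcr f hf l)) (hcr _ hstd b)
    simp only [cr_mul, smul_mul_assoc, smul_smul, gB_std_left, gB_std_right] at this
    have hne : wt δ a * f l a * (wt δ b * f l b) ≠ 0 :=
      mul_ne_zero (mul_ne_zero (wt_ne_zero hδ a) ha) (mul_ne_zero (wt_ne_zero hδ b) hb)
    have h' := B.smul_mem this (wt δ a * f l a * (wt δ b * f l b))⁻¹
    rw [smul_smul, inv_mul_cancel₀ hne, one_smul] at h'
    exact h'
  have hd0 : δ ≠ 0 := fun e => hδ (e ▸ IsSquare.zero)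
  have h11 : (1 : F) + 1 ≠ 0 := by rwa [one_add_one_eq_two]
  have hedge : ∀ a : Fin 4, cr (G4 δ) (Pi.single a 1) (Pi.single 1 1) ∈ B ∧
      cr (G4 δ) (Pi.single 1 1) (Pi.single a 1) ∈ B := by
    have h12 : Orth δ ![![0, 1, 1, 0], ![0, 1, -1, 0], ![1, 0, 0, 0], ![0, 0, 0, 1]] := by
      refine ⟨fun l => ?_, fun l m h => ?_⟩
      · rw [gB_diag]; fin_cases l <;> simp [hd0, h11]
      · rw [gB_diag]; fin_cases l <;> fin_cases m <;> simp at h ⊢
    have h13 : Orth δ ![![0, 1, 0, 1], ![0, 1, 0, -1], ![1, 0, 0, 0], ![0, 0, 1, 0]] := by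
      refine ⟨fun l => ?_, fun l m h => ?_⟩
      · rw [gB_diag]; fin_cases l <;> simp [hd0, h11]
      · rw [gB_diag]; fin_cases l <;> fin_cases m <;> simp at h ⊢
    intro a
    fin_cases a
    · by_cases hd : δ + 1 = 0
      · have hd' : δ = -1 := eq_neg_of_add_eq_zero_left hd
        have h012 : Orth δ ![![1, 1, 1, 0], ![0, 1, -1, 0], ![2, 1, 1, 0], ![0, 0, 0, 1]] := by
          refine ⟨fun l => ?_, fun l m h => ?_⟩
          · rw [gB_diag, hd']
            fin_cases l <;> simp [h11]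
            intro e
            exact h2 (by linear_combination -e)
          · rw [gB_diag, hd']
            fin_cases l <;> fin_cases m <;> simp at h ⊢ <;> ring
        exact ⟨hlink _ h012 0 0 1 (by simp) (by simp), hlink _ h012 0 1 0 (by simp) (by simp)⟩
      · have h01 : Orth δ ![![1, 1, 0, 0], ![1, -δ, 0, 0], ![0, 0, 1, 0], ![0, 0, 0, 1]] := by
          refine ⟨fun l => ?_, fun l m h => ?_⟩
          · rw [gB_diag]
            fin_cases l <;> simp [hd]
            intro e
            exact mul_ne_zero hd0 hd (by linear_combination e)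
          · rw [gB_diag]
            fin_cases l <;> fin_cases m <;> simp at h ⊢
        exact ⟨hlink _ h01 0 0 1 (by simp) (by simp), hlink _ h01 0 1 0 (by simp) (by simp)⟩
    · exact ⟨hcr _ hstd 1, hcr _ hstd 1⟩
    · exact ⟨hlink _ h12 0 2 1 (by simp) (by simp), hlink _ h12 0 1 2 (by simp) (by simp)⟩
    · exact ⟨hlink _ h13 0 3 1 (by simp) (by simp), hlink _ h13 0 1 3 (by simp) (by simp)⟩
  rw [eq_top_iff]
  rintro X -
  rw [Matrix.matrix_eq_sum_single X]
  refine sum_mem fun p _ => sum_mem fun q _ => ?_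
  have := B.smul_mem (mul_mem (hedge p).1 (hedge q).2) (X p q * (wt δ q)⁻¹)
  rw [cr_mul, gB_std_left, Pi.single_eq_same, show wt δ 1 = 1 from rfl, one_mul, one_smul] at this
  convert this using 1
  ext a b
  rw [Matrix.smul_apply, cr, vecMulVec_apply, G4, Matrix.vecMul_diagonal, Matrix.single_apply,
    smul_eq_mul]
  by_cases ha : a = p <;> by_cases hb : b = q
  · subst ha; subst hb
    simp [mul_assoc, inv_mul_cancel₀ (wt_ne_zero hδ b)]
  all_goals simp [ha, hb, Ne.symm]

lemma scalar_of_commute (h2 : (2 : F) ≠ 0) (hδ : ¬ IsSquare δ) {B : MV F t}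
    (hB : ∀ j f, Orth δ f → ∀ l, Commute (Py δ j (f l)) B) : ∃ s : F, B = s • 1 := by
  have hall := top_of_frames h2 hδ (Subalgebra.centralizer F {B}) fun j f hf l => by
    rw [Subalgebra.mem_centralizer_iff]
    rintro _ rfl
    exact (hB j f hf l).eq.symm
  have hc : ∀ X, Commute X B := fun X =>
    ((Subalgebra.mem_centralizer_iff (R := F)).1
      (hall ▸ Algebra.mem_top : X ∈ Subalgebra.centralizer F {B}) B rfl).symm
  obtain ⟨s, hs⟩ := (Matrix.mem_range_scalar_iff_commute_single' (M := B)).2 fun p q => hc _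
  exact ⟨s, by rw [← hs, Matrix.scalar_apply, ← Matrix.smul_one_eq_diagonal]⟩

lemma top_of_invariant (h2 : (2 : F) ≠ 0) (hδ : ¬ IsSquare δ) (U : Submodule F (Vec F t))
    (hU : ∀ j f, Orth δ f → ∀ l, ∀ u ∈ U, Py δ j (f l) *ᵥ u ∈ U) {u : Vec F t} (hu : u ∈ U)
    (hu0 : u ≠ 0) (v : Vec F t) : v ∈ U := by
  classical
  let A : Subalgebra F (MV F t) :=
    { carrier := {X | ∀ u ∈ U, X *ᵥ u ∈ U}
      one_mem' := fun u hu => by rwa [one_mulVec]
      mul_mem' := fun {X Y} hX hY u hu => by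
        rw [← mulVec_mulVec]; exact hX _ (hY u hu)
      zero_mem' := fun u _ => by rw [zero_mulVec]; exact zero_mem U
      add_mem' := fun {X Y} hX hY u hu => by rw [add_mulVec]; exact add_mem (hX u hu) (hY u hu)
      algebraMap_mem' := fun c u hu => by
        rw [Algebra.algebraMap_eq_smul_one, smul_mulVec, one_mulVec]; exact U.smul_mem c hu }
  have hA : A = ⊤ := top_of_frames h2 hδ A hU
  obtain ⟨p, hp⟩ := Function.ne_iff.1 hu0
  have := (hA ▸ Algebra.mem_top : vecMulVec v (Pi.single p (u p)⁻¹) ∈ A) u hu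
  have e : vecMulVec v (Pi.single p (u p)⁻¹) *ᵥ u = v := by
    ext a
    simp [Matrix.vecMulVec_mulVec, single_dotProduct, inv_mul_cancel₀ hp]
  rwa [e] at this

/-- A power of an element of a finite monoid is an idempotent. -/
lemma exists_pow_idem {R : Type*} [Monoid R] [Finite R] (x : R) :
    ∃ n, 0 < n ∧ x ^ n * x ^ n = x ^ n := by
  obtain ⟨a, b, hab, e⟩ := Finite.exists_ne_map_eq_of_infinite (fun n : ℕ => x ^ n)
  wlog h : a < b generalizing a b
  · exact this b a hab.symm e.symm (by omega)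
  have key : ∀ n, a ≤ n → x ^ (n + (b - a)) = x ^ n := fun n hn => by
    obtain ⟨c, rfl⟩ := Nat.exists_eq_add_of_le hn
    rw [show a + c + (b - a) = b + c by omega, pow_add, pow_add, e]
  have key' : ∀ m n, a ≤ n → x ^ (n + m * (b - a)) = x ^ n := by
    intro m
    induction m with
    | zero => simp
    | succ m ih =>
      intro n hn
      rw [Nat.succ_mul, ← add_assoc, key _ (by omega), ih n hn]
  refine ⟨(a + 1) * (b - a), Nat.mul_pos (by omega) (by omega), ?_⟩
  rw [← pow_add, key' (a + 1) _ ?_]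
  exact le_trans (Nat.le_succ a) (Nat.le_mul_of_pos_right _ (by omega))

lemma trace_site (j : Fin t) (A : M4 F) :
    (site j A).trace = A.trace * ∏ _l ∈ Finset.univ.erase j, (4 : F) := by
  classical
  have : (site j A).trace = ∏ l, (Function.update (1 : Fin t → M4 F) j A l).trace := by
    simp only [site, Matrix.trace, Matrix.diag_apply, pureMat]
    exact (Fintype.prod_sum fun l (x : Fin 4) => Function.update (1 : Fin t → M4 F) j A l x x).symm
  rw [this, ← Finset.mul_prod_erase Finset.univ _ (Finset.mem_univ j), Function.update_self]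
  congr 1
  refine Finset.prod_congr rfl fun l hl => ?_
  rw [Function.update_of_ne (Finset.ne_of_mem_erase hl), Pi.one_apply, Matrix.trace_one]
  norm_num

lemma trace_refl_ne (h2 : (2 : F) ≠ 0) (j : Fin t) {y : Fin 4 → F} (hy : gB (G4 δ) y y ≠ 0) :
    (site j (reflW δ y)).trace ≠ 0 := by
  have h4 : (4 : F) ≠ 0 := by
    rw [show (4 : F) = 2 * 2 by norm_num]; exact mul_ne_zero h2 h2
  have htr : (reflW δ y).trace = 2 := by
    rw [reflW, Matrix.trace_sub, Matrix.trace_one, Matrix.trace_smul, cr, Matrix.trace_vecMulVec,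
      dotProduct_comm, show (y ᵥ* G4 δ) ⬝ᵥ y = gB (G4 δ) y y from rfl, smul_eq_mul,
      div_mul_cancel₀ _ hy]
    norm_num
  rw [trace_site, htr]
  exact mul_ne_zero h2 (Finset.prod_ne_zero_iff.2 fun _ _ => h4)

variable [Finite F]

lemma eq_zero_of_nilpotent (h2 : (2 : F) ≠ 0) (hδ : ¬ IsSquare δ) (A : Subalgebra F (MV F t))
    (hc : ∀ x ∈ A, ∀ y ∈ A, Commute x y)
    (hinv : ∀ j y, gB (G4 δ) y y ≠ 0 → ∀ x ∈ A,
      site j (reflW δ y) * x * site j (reflW δ y) ∈ A)
    {n : MV F t} (hn : n ∈ A) (hnil : IsNilpotent n) : n = 0 := by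
  classical
  haveI : Finite (MV F t) := inferInstanceAs (Finite ((Fin t → Fin 4) → (Fin t → Fin 4) → F))
  let U : Submodule F (Vec F t) :=
    { carrier := {u | ∀ m ∈ A, IsNilpotent m → m *ᵥ u = 0}
      zero_mem' := fun m _ _ => mulVec_zero m
      add_mem' := fun {u v} hu hv m hm hm' => by
        rw [mulVec_add, hu m hm hm', hv m hm hm', add_zero]
      smul_mem' := fun c u hu m hm hm' => by rw [mulVec_smul, hu m hm hm', smul_zero] }
  obtain ⟨u, hu0, hu⟩ := OrthWreathBig.Sys.common_kernel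
    (Set.toFinite {m | m ∈ A ∧ IsNilpotent m}).toFinset
    (fun x hx => ((Set.Finite.mem_toFinset _).1 hx).2)
    fun x hx y hy => hc x ((Set.Finite.mem_toFinset _).1 hx).1 y ((Set.Finite.mem_toFinset _).1 hy).1
  have huU : u ∈ U := fun m hm hm' => hu m ((Set.Finite.mem_toFinset _).2 ⟨hm, hm'⟩)
  have hUinv : ∀ j f, Orth δ f → ∀ l, ∀ v ∈ U, Py δ j (f l) *ᵥ v ∈ U := by
    intro j f hf l v hv m hm hm'
    set r := site j (reflW δ (f l)) with hr
    have hrr : r * r = 1 := refl_mul_self j (hf.1 l)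
    have hnil' : IsNilpotent (r * m * r) := by
      obtain ⟨s, hs⟩ := hm'
      refine ⟨s + 1, ?_⟩
      have : ∀ s, (r * m * r) ^ (s + 1) = r * m ^ (s + 1) * r := by
        intro s
        induction s with
        | zero => simp
        | succ s ih =>
          rw [pow_succ, ih, pow_succ m (s + 1)]
          simp only [mul_assoc]
          rw [← mul_assoc r r, hrr, one_mul]
      rw [this, pow_succ, hs, zero_mul, mul_zero, zero_mul]
    have hrv : m *ᵥ (r *ᵥ v) = 0 := by
      have h0 := hv _ (hinv j _ (hf.1 l) m hm) hnil'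
      rw [mulVec_mulVec, show m * r = r * (r * m * r) by
        simp only [← mul_assoc]; rw [hrr, one_mul], ← mulVec_mulVec, h0, mulVec_zero]
    rw [Py_of_refl h2, smul_mulVec, sub_mulVec, one_mulVec, mulVec_smul, mulVec_sub, hv m hm hm',
      ← hr, hrv, sub_zero, smul_zero]
  refine Matrix.ext fun a b => ?_
  have hb := top_of_invariant h2 hδ U hUinv huU hu0 (Pi.single b 1) n hn hnil
  rw [mulVec_single_one] at hb
  exact congrFun hb a

lemma moved_or_fixed (A : Subalgebra F (MV F t))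
    (hc : ∀ x ∈ A, ∀ y ∈ A, Commute x y)
    (hinv : ∀ j y, gB (G4 δ) y y ≠ 0 → ∀ x ∈ A,
      site j (reflW δ y) * x * site j (reflW δ y) ∈ A)
    (h2 : (2 : F) ≠ 0) {f : MV F t} (hf : f ∈ A) (hff : f * f = f)
    (hmin : ∀ g ∈ A, g * g = g → g * f = g → g = 0 ∨ g = f)
    (j : Fin t) {y : Fin 4 → F} (hy : gB (G4 δ) y y ≠ 0) :
    Commute (Py δ j y) f ∨ f * Py δ j y * f = (2 : F)⁻¹ • f := by
  set r := site j (reflW δ y) with hr
  have hrr : r * r = 1 := refl_mul_self j hy
  set f' := r * f * r with hf'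
  have hf'A : f' ∈ A := hinv j y hy f hf
  have hf'f' : f' * f' = f' := by
    rw [hf']
    simp only [mul_assoc]
    rw [← mul_assoc r r, hrr, one_mul, ← mul_assoc f f, hff]
  have hcc : f * f' = f' * f := (hc f hf f' hf'A).eq
  rcases hmin (f * f') (mul_mem hf hf'A)
      (by rw [mul_assoc, ← mul_assoc f', ← hcc, mul_assoc f f', hf'f', ← mul_assoc, hff])
      (by rw [mul_assoc, ← hcc, ← mul_assoc, hff]) with e | e
  · right
    have hfrf : f * r * f = 0 := by
      have := congrArg (· * r) e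
      simp only [hf', zero_mul, mul_assoc, hrr, mul_one] at this
      rw [mul_assoc]; exact this
    rw [hr, refl_eq, mul_sub, sub_mul, mul_one, hff, sub_eq_zero, mul_smul_comm, smul_mul_assoc]
      at hfrf
    conv_rhs => rw [hfrf]
    rw [smul_smul, inv_mul_cancel₀ h2, one_smul]
  · left
    have hfix : f' = f := by
      have h' : f' * f = f' := by
        calc f' * f = r * (f * (r * f * r)) * r := by
              simp only [hf', mul_assoc, hrr, mul_one]
          _ = r * f * r := by rw [← hf', e]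
      rw [← hcc, e] at h'
      exact h'.symm
    have hrf : Commute r f := by
      have := congrArg (· * r) hfix
      simp only [hf', mul_assoc, hrr, mul_one] at this
      exact this
    rw [Py_of_refl h2]
    exact ((Commute.one_left f).sub_left hrf).smul_left _

lemma two_moved (h2 : (2 : F) ≠ 0) {f : MV F t} (hff : f * f = f) (hf0 : f ≠ 0) (j : Fin t)
    (hmv : ∀ y, gB (G4 δ) y y ≠ 0 → Commute (Py δ j y) f ∨ f * Py δ j y * f = (2 : F)⁻¹ • f)
    {e : Fin 4 → Fin 4 → F} (he : Orth δ e) {a : Fin 4}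
    (ha : f * Py δ j (e a) * f = (2 : F)⁻¹ • f) :
    ∃ S : Finset (Fin 4), S.card = 2 ∧ a ∈ S ∧
      (∀ l ∈ S, f * Py δ j (e l) * f = (2 : F)⁻¹ • f) ∧ ∀ l, l ∉ S → Py δ j (e l) * f = 0 := by
  classical
  refine ⟨Finset.univ.filter fun l => f * Py δ j (e l) * f = (2 : F)⁻¹ • f, ?_, by simp [ha],
    fun l hl => (Finset.mem_filter.1 hl).2, ?_⟩
  swap
  · intro l hl
    simp only [Finset.mem_filter, Finset.mem_univ, true_and] at hl
    have hla : l ≠ a := fun h => hl (h ▸ ha)
    have hcl := (hmv _ (he.1 l)).resolve_right hl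
    have e1 : Py δ j (e l) * f * (Py δ j (e a) * f) = (2 : F)⁻¹ • (Py δ j (e l) * f) := by
      rw [mul_assoc, ← mul_assoc f, ha, mul_smul_comm]
    rw [hcl.eq, mul_assoc, ← mul_assoc (Py δ j (e l)), Py_orth j (he.2 l a hla), zero_mul,
      mul_zero] at e1
    rw [hcl.eq]
    exact ((smul_eq_zero.1 e1.symm).resolve_left (inv_ne_zero h2))
  · set S := Finset.univ.filter fun l => f * Py δ j (e l) * f = (2 : F)⁻¹ • f with hS
    have hout : ∀ l, l ∉ S → Py δ j (e l) * f = 0 := by
      intro l hl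
      simp only [hS, Finset.mem_filter, Finset.mem_univ, true_and] at hl
      have hla : l ≠ a := fun h => hl (h ▸ ha)
      have hcl := (hmv _ (he.1 l)).resolve_right hl
      have e1 : Py δ j (e l) * f * (Py δ j (e a) * f) = (2 : F)⁻¹ • (Py δ j (e l) * f) := by
        rw [mul_assoc, ← mul_assoc f, ha, mul_smul_comm]
      rw [hcl.eq, mul_assoc, ← mul_assoc (Py δ j (e l)), Py_orth j (he.2 l a hla), zero_mul,
        mul_zero] at e1
      rw [hcl.eq]
      exact ((smul_eq_zero.1 e1.symm).resolve_left (inv_ne_zero h2))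
    have hsum : f = ((S.card : F) * (2 : F)⁻¹) • f := by
      calc f = f * (∑ l, Py δ j (e l)) * f := by rw [frame_sum j he, mul_one, hff]
        _ = ∑ l, f * Py δ j (e l) * f := by rw [Finset.mul_sum, Finset.sum_mul]
        _ = ∑ l ∈ S, f * Py δ j (e l) * f := by
          refine (Finset.sum_subset (Finset.subset_univ S) fun l _ hl => ?_).symm
          rw [mul_assoc, hout l hl, mul_zero]
        _ = ∑ _l ∈ S, (2 : F)⁻¹ • f := Finset.sum_congr rfl fun l hl => by
          rw [hS, Finset.mem_filter] at hl; exact hl.2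
        _ = ((S.card : F) * (2 : F)⁻¹) • f := by
          rw [Finset.sum_const, ← Nat.cast_smul_eq_nsmul F, smul_smul]
    have hc2 : (S.card : F) = 2 := by
      have h1 : (1 : F) = (S.card : F) * (2 : F)⁻¹ := smul_left_injective F hf0 (by
        show (1 : F) • f = _ • f
        rw [one_smul]; exact hsum)
      field_simp at h1
      exact h1.symm
    have hle : S.card ≤ 4 := (Finset.card_le_univ S).trans_eq (Fintype.card_fin 4)
    interval_cases h : S.card
    · exact absurd hc2.symm (by simpa using h2)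
    · exact absurd hc2 fun e => one_ne_zero (α := F) (by push_cast at e; linear_combination -e)
    · rfl
    · exact absurd hc2 fun e => one_ne_zero (α := F) (by push_cast at e; linear_combination e)
    · exact absurd hc2 fun e => h2 (by push_cast at e; linear_combination e)

lemma not_moved (h2 : (2 : F) ≠ 0) (hδ : ¬ IsSquare δ) {f : MV F t} (hff : f * f = f) (hf0 : f ≠ 0)
    (j : Fin t)
    (hmv : ∀ y, gB (G4 δ) y y ≠ 0 → Commute (Py δ j y) f ∨ f * Py δ j y * f = (2 : F)⁻¹ • f)
    {e : Fin 4 → Fin 4 → F} (he : Orth δ e) (a : Fin 4) :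
    f * Py δ j (e a) * f ≠ (2 : F)⁻¹ • f := by
  classical
  intro ha
  obtain ⟨S, hS2, haS, hin, hout⟩ := two_moved h2 hff hf0 j hmv he ha
  obtain ⟨b, hba, hSab⟩ : ∃ b, b ≠ a ∧ S = {a, b} := by
    obtain ⟨u, v, huv, rfl⟩ := Finset.card_eq_two.1 hS2
    rcases Finset.mem_insert.1 haS with rfl | hv
    · exact ⟨v, huv.symm, rfl⟩
    · rw [Finset.mem_singleton] at hv; subst hv
      exact ⟨u, huv, Finset.pair_comm _ _⟩
  obtain ⟨c, d, hcd, hScd⟩ := Finset.card_eq_two.1
    (show Sᶜ.card = 2 by rw [Finset.card_compl, hS2, Fintype.card_fin])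
  have hc : c ∉ S := Finset.mem_compl.1 (hScd ▸ Finset.mem_insert_self c {d})
  have hd : d ∉ S :=
    Finset.mem_compl.1 (hScd ▸ Finset.mem_insert_of_mem (Finset.mem_singleton_self d))
  have hbS : b ∈ S := by rw [hSab]; simp
  have hne : ∀ {u v : Fin 4}, u ∈ S → v ∉ S → u ≠ v := fun hu hv huv => hv (huv ▸ hu)
  let inT : (Fin 4 → F) → Prop := fun z => site j (cr (G4 δ) (Pi.single 0 1) z) * f = 0
  have hT0 : ∀ z, gB (G4 δ) z z ≠ 0 → Py δ j z * f = 0 → inT z := by
    intro z hz h0
    have := congrArg (site j (cr (G4 δ) (Pi.single 0 1) z) * ·) h0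
    simp only [Py, smul_mul_assoc, mul_smul_comm, ← mul_assoc, site_mul, cr_mul, mul_zero] at this
    rw [site_smul, smul_mul_assoc, smul_smul, inv_mul_cancel₀ hz, one_smul] at this
    exact this
  have hT1 : ∀ z, inT z → Py δ j z * f = 0 := by
    intro z hz
    have hd0 : wt δ 0 ≠ 0 := wt_ne_zero hδ 0
    have e1 : site j (cr (G4 δ) z z) =
        (wt δ 0)⁻¹ • (site j (cr (G4 δ) z (Pi.single 0 1)) * site j (cr (G4 δ) (Pi.single 0 1) z)) := by
      rw [site_mul, cr_mul, site_smul, smul_smul, gB_std_left, Pi.single_eq_same, mul_one,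
        inv_mul_cancel₀ hd0, one_smul]
    rw [Py, smul_mul_assoc, e1, smul_mul_assoc, mul_assoc, hz, mul_zero, smul_zero, smul_zero]
  have hTlin : ∀ u v (s r : F), inT u → inT v → inT (s • u + r • v) := by
    intro u v s r hu hv
    show site j _ * f = 0
    rw [OrthWreathBig.cr_add_right, OrthWreathBig.cr_smul_right, OrthWreathBig.cr_smul_right,
      site_add, site_smul, site_smul, add_mul, smul_mul_assoc, smul_mul_assoc, hu, hv, smul_zero,
      smul_zero, add_zero]
  have hnT : ∀ z, f * Py δ j z * f = (2 : F)⁻¹ • f → ¬ inT z := by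
    intro z hz hzT
    rw [mul_assoc, hT1 z hzT, mul_zero] at hz
    exact hf0 ((smul_eq_zero.1 hz.symm).resolve_left (inv_ne_zero h2))
  set B := gB (G4 δ)
  have hsy : ∀ u v, B u v = B v u := fun u v => gB_symm δ u v
  have hTc := hT0 _ (he.1 c) (hout c hc)
  have hTd := hT0 _ (he.1 d) (hout d hd)
  have hac : B (e a) (e c) = 0 := he.2 a c (hne haS hc)
  have had : B (e a) (e d) = 0 := he.2 a d (hne haS hd)
  have hbc : B (e b) (e c) = 0 := he.2 b c (hne hbS hc)
  have hbd : B (e b) (e d) = 0 := he.2 b d (hne hbS hd)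
  have hcd' : B (e c) (e d) = 0 := he.2 c d hcd
  have hab : B (e a) (e b) = 0 := he.2 a b hba.symm
  obtain ⟨p, p', hp, hp', hpp', hap, hap', hbp, hbp', hTp, hbp2⟩ : ∃ p p', B p p ≠ 0 ∧ B p' p' ≠ 0 ∧
      B p p' = 0 ∧ B (e a) p = 0 ∧ B (e a) p' = 0 ∧ B (e b) p = 0 ∧ B (e b) p' = 0 ∧ inT p ∧
      B (e b) (e b) + B p p ≠ 0 := by
    by_cases h1 : B (e b) (e b) + B (e c) (e c) = 0
    · by_cases h3 : B (e b) (e b) + B (e d) (e d) = 0
      · have hcd2 : B (e d) (e d) = B (e c) (e c) := by linear_combination h3 - h1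
        refine ⟨e c + e d, e c - e d, ?_, ?_, ?_, ?_, ?_, ?_, ?_, ?_, ?_⟩
        · simp only [map_add, LinearMap.add_apply, hcd', hsy (e d) (e c), hcd2, add_zero, zero_add]
          intro h; exact mul_ne_zero h2 (he.1 c) (by linear_combination h)
        · simp only [map_sub, LinearMap.sub_apply, hcd', hsy (e d) (e c), hcd2, sub_zero, zero_sub]
          intro h; exact mul_ne_zero h2 (he.1 c) (by linear_combination h)
        · simp [hcd', hsy (e d) (e c), hcd2]
        · simp [hac, had]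
        · simp [hac, had]
        · simp [hbc, hbd]
        · simp [hbc, hbd]
        · simpa using hTlin _ _ 1 1 hTc hTd
        · simp only [map_add, LinearMap.add_apply, hcd', hsy (e d) (e c), hcd2, add_zero, zero_add]
          intro h
          exact he.1 c (by linear_combination h - h1)
      · exact ⟨e d, e c, he.1 d, he.1 c, by rw [hsy, hcd'], had, hac, hbd, hbc, hTd, h3⟩
    · exact ⟨e c, e d, he.1 c, he.1 d, hcd', hac, had, hbc, hbd, hTc, h1⟩
  set s := e b + p with hs
  set s' := B p p • e b - B (e b) (e b) • p with hs'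
  have hnew : Orth δ ![e a, s, s', p'] := by
    have hpb : B p (e b) = 0 := by rw [hsy, hbp]
    have hss : B s s = B (e b) (e b) + B p p := by simp [hs, hbp, hpb]
    have hs's' : B s' s' = B (e b) (e b) * B p p * (B (e b) (e b) + B p p) := by
      simp [hs', hbp, hpb]; ring
    have has : B (e a) s = 0 := by simp [hs, hab, hap]
    have has' : B (e a) s' = 0 := by simp [hs', hab, hap]
    have hss' : B s s' = 0 := by simp [hs, hs', hbp, hpb]; ring
    have hsp : B s p' = 0 := by simp [hs, hbp', hpp']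
    have hs'p : B s' p' = 0 := by simp [hs', hbp', hpp']
    exact orth_four (he.1 a) (hss ▸ hbp2) (hs's' ▸ mul_ne_zero (mul_ne_zero (he.1 b) hp) hbp2) hp'
      has has' hap' hss' hsp hs'p
  obtain ⟨S', hS'2, h0S', -, hout'⟩ := two_moved h2 hff hf0 j hmv (a := 0) hnew ha
  have hbT := hnT _ (hin b hbS)
  have h1S : (1 : Fin 4) ∈ S' := by
    by_contra h
    have : inT s := hT0 s (hnew.1 1) (hout' 1 h)
    apply hbT
    have := hTlin _ _ 1 (-1) this hTp
    simpa [hs] using this
  have h2S : (2 : Fin 4) ∈ S' := by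
    by_contra h
    have : inT s' := hT0 s' (hnew.1 2) (hout' 2 h)
    apply hbT
    have := hTlin _ _ (B p p)⁻¹ ((B p p)⁻¹ * B (e b) (e b)) this hTp
    simpa [hs', smul_sub, smul_smul, inv_mul_cancel₀ hp] using this
  have : ({0, 1, 2} : Finset (Fin 4)).card ≤ S'.card := Finset.card_le_card (by
    intro l hl
    simp only [Finset.mem_insert, Finset.mem_singleton] at hl
    rcases hl with rfl | rfl | rfl <;> assumption)
  rw [hS'2] at this
  simp at this

theorem eq_one_of_idem (h2 : (2 : F) ≠ 0) (hδ : ¬ IsSquare δ) (A : Subalgebra F (MV F t))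
    (hc : ∀ x ∈ A, ∀ y ∈ A, Commute x y)
    (hinv : ∀ j y, gB (G4 δ) y y ≠ 0 → ∀ x ∈ A,
      site j (reflW δ y) * x * site j (reflW δ y) ∈ A)
    {e : MV F t} (he : e ∈ A) (hee : e * e = e) (he0 : e ≠ 0) : e = 1 := by
  classical
  haveI : Finite (MV F t) := inferInstanceAs (Finite ((Fin t → Fin 4) → (Fin t → Fin 4) → F))
  obtain ⟨f, ⟨hfA, hff, hf0, hfe⟩, hmin'⟩ := Set.exists_min_image
    {f | f ∈ A ∧ f * f = f ∧ f ≠ 0 ∧ f * e = f}
    (fun f : MV F t => Set.ncard {v : Vec F t | f *ᵥ v = v}) (Set.toFinite _)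
    ⟨e, he, hee, he0, hee⟩
  have hmin : ∀ g ∈ A, g * g = g → g * f = g → g = 0 ∨ g = f := by
    intro g hg hgg hgf
    by_cases hg0 : g = 0
    · exact Or.inl hg0
    right
    have hle := hmin' g ⟨hg, hgg, hg0, by rw [← hgf, mul_assoc, hfe]⟩
    have hfg : f * g = g := by rw [(hc f hfA g hg).eq, hgf]
    have hsub : {v : Vec F t | g *ᵥ v = v} ⊆ {v | f *ᵥ v = v} := fun v hv => by
      simp only [Set.mem_setOf_eq] at hv ⊢
      conv_lhs => rw [← hv]
      rw [mulVec_mulVec, hfg, hv]
    have heq : {v : Vec F t | g *ᵥ v = v} = {v | f *ᵥ v = v} :=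
      Set.eq_of_subset_of_ncard_le hsub hle (Set.toFinite _)
    refine Matrix.ext fun a b => ?_
    have hb : f *ᵥ (f *ᵥ Pi.single b 1) = f *ᵥ Pi.single b 1 := by rw [mulVec_mulVec, hff]
    have hb' : g *ᵥ (f *ᵥ Pi.single b 1) = f *ᵥ Pi.single b 1 := by
      have : f *ᵥ Pi.single b 1 ∈ {v : Vec F t | g *ᵥ v = v} := by rw [heq]; exact hb
      exact this
    rw [mulVec_mulVec, hgf] at hb'
    rw [mulVec_single_one, mulVec_single_one] at hb'
    exact congrFun hb' a
  obtain ⟨s, hs⟩ := scalar_of_commute h2 hδ (B := f) fun j g hg l =>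
    (moved_or_fixed A hc hinv h2 hfA hff hmin j (hg.1 l)).resolve_right
      (not_moved h2 hδ hff hf0 j (fun y hy => moved_or_fixed A hc hinv h2 hfA hff hmin j hy) hg l)
  rw [hs] at hff hfe hf0
  have hs0 : s ≠ 0 := fun h => hf0 (by rw [h, zero_smul])
  rw [smul_mul_assoc, one_mul] at hfe hff
  exact smul_right_injective (MV F t) hs0 hfe

/-- Commuting matrices permuted by all site reflections are scalar. -/
theorem scalar_of_set (h2 : (2 : F) ≠ 0) (hδ : ¬ IsSquare δ) (Φ : Set (MV F t))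
    (hc : ∀ x ∈ Φ, ∀ y ∈ Φ, Commute x y)
    (hinv : ∀ j y, gB (G4 δ) y y ≠ 0 → ∀ x ∈ Φ,
      site j (reflW δ y) * x * site j (reflW δ y) ∈ Φ)
    {x : MV F t} (hx : x ∈ Φ) : ∃ s : F, x = s • 1 := by
  classical
  haveI : Finite (MV F t) := inferInstanceAs (Finite ((Fin t → Fin 4) → (Fin t → Fin 4) → F))
  set A := Algebra.adjoin F Φ with hA
  have h1 : A ≤ Subalgebra.centralizer F Φ := Algebra.adjoin_le fun a ha => by
    rw [SetLike.mem_coe, Subalgebra.mem_centralizer_iff]
    exact fun b hb => (hc b hb a ha).eq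
  have h1' : A ≤ Subalgebra.centralizer F (A : Set (MV F t)) := Algebra.adjoin_le fun a ha => by
    rw [SetLike.mem_coe, Subalgebra.mem_centralizer_iff]
    exact fun b hb => ((Subalgebra.mem_centralizer_iff (R := F)).1 (h1 hb) a ha).symm
  have hcA : ∀ a ∈ A, ∀ b ∈ A, Commute a b := fun a ha b hb =>
    (Subalgebra.mem_centralizer_iff (R := F)).1 (h1' hb) a ha
  have hinvA : ∀ j y, gB (G4 δ) y y ≠ 0 → ∀ a ∈ A,
      site j (reflW δ y) * a * site j (reflW δ y) ∈ A := by
    intro j y hy a ha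
    have hrr := refl_mul_self (δ := δ) j hy
    induction ha using Algebra.adjoin_induction with
    | mem a ha => exact Algebra.subset_adjoin (hinv j y hy a ha)
    | algebraMap c =>
      rw [← Algebra.commutes, mul_assoc, hrr, mul_one]
      exact A.algebraMap_mem c
    | add a b _ _ ha hb => rw [mul_add, add_mul]; exact add_mem ha hb
    | mul a b _ _ ha hb =>
      have := mul_mem ha hb
      simp only [mul_assoc] at this ⊢
      rwa [← mul_assoc (site j (reflW δ y)) (site j (reflW δ y)), hrr, one_mul] at this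
  have hxA : x ∈ A := Algebra.subset_adjoin hx
  refine scalar_of_commute h2 hδ fun j g hg l => ?_
  set r := site j (reflW δ (g l)) with hr
  have hrr : r * r = 1 := refl_mul_self j (hg.1 l)
  set D := x - r * x * r with hD
  have hDA : D ∈ A := sub_mem hxA (hinvA j _ (hg.1 l) x hxA)
  suffices h0 : D = 0 by
    have hrx : Commute r x := by
      have := congrArg (r * ·) (sub_eq_zero.1 h0)
      simp only [← mul_assoc, hrr, one_mul] at this
      exact this
    rw [Py_of_refl h2]
    exact ((Commute.one_left x).sub_left hrx).smul_left _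
  by_contra h0
  obtain ⟨n, hn, hidem⟩ := exists_pow_idem D
  have hpow : D ^ n ≠ 0 := fun e =>
    h0 (eq_zero_of_nilpotent h2 hδ A hcA hinvA hDA ⟨n, e⟩)
  have hone := eq_one_of_idem h2 hδ A hcA hinvA (pow_mem hDA n) hidem hpow
  have hrD : r * D = -(D * r) := by
    simp only [hD, mul_sub, sub_mul, mul_assoc, hrr, mul_one]
    rw [← mul_assoc r r, hrr, one_mul]
    abel
  have htr : r.trace = -r.trace := by
    obtain ⟨m, rfl⟩ := Nat.exists_eq_succ_of_ne_zero hn.ne'
    calc r.trace = (r * D * D ^ m).trace := by rw [mul_assoc, ← pow_succ', hone, mul_one]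
      _ = -(D * (r * D ^ m)).trace := by rw [hrD, neg_mul, Matrix.trace_neg, mul_assoc]
      _ = -(r * D ^ m * D).trace := by rw [Matrix.trace_mul_comm]
      _ = -r.trace := by rw [mul_assoc, ← pow_succ, hone, mul_one]
  exact mul_ne_zero h2 (trace_refl_ne h2 j (hg.1 l)) (by linear_combination htr)

end Cfsg.Agent.MaxSub.OrthFour.UBig
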